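import Mathlib.Order.Filter.FilterProduct
import Mathlib.RingTheory.Valuation.ValuationSubring
import Mathlib.Analysis.Complex.Basic

/-!
# The valuation ring of bounded germs along an ultrafilter

For an ultrafilter `𝓤` on `T`, the germs along `𝓤` of functions `T → ℂ` form a field, and the germs
which converge in `ℂ` (equivalently, which are bounded) form a valuation ring with residue field `ℂ`,
the residue map being the limit along `𝓤`.
-/

set_option autoImplicit false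
open Filter Topology

noncomputable section

namespace Groth.Agent.An.H875.GermVal

variable {T : Type*} (𝓤 : Ultrafilter T)

/-- The ultrapower field. -/
abbrev K : Type _ := Germ (𝓤 : Filter T) ℂ

/-- The subring of convergent germs. -/
def subO : Subring (K 𝓤) where
  carrier := {g | ∃ c : ℂ, Germ.Tendsto g (𝓝 c)}
  mul_mem' {f g} := by
    induction f using Germ.inductionOn with | _ f
    induction g using Germ.inductionOn with | _ g
    rintro ⟨a, ha⟩ ⟨b, hb⟩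
    exact ⟨a * b, (Tendsto.mul (Germ.coe_tendsto.1 ha) (Germ.coe_tendsto.1 hb))⟩
  one_mem' := ⟨1, (tendsto_const_nhds (x := (1 : ℂ)) : Tendsto (fun _ : T => (1 : ℂ)) _ _)⟩
  add_mem' {f g} := by
    induction f using Germ.inductionOn with | _ f
    induction g using Germ.inductionOn with | _ g
    rintro ⟨a, ha⟩ ⟨b, hb⟩
    exact ⟨a + b, (Tendsto.add (Germ.coe_tendsto.1 ha) (Germ.coe_tendsto.1 hb))⟩
  zero_mem' := ⟨0, (tendsto_const_nhds (x := (0 : ℂ)) : Tendsto (fun _ : T => (0 : ℂ)) _ _)⟩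
  neg_mem' {f} := by
    induction f using Germ.inductionOn with | _ f
    rintro ⟨a, ha⟩
    exact ⟨-a, (Tendsto.neg (Germ.coe_tendsto.1 ha))⟩

lemma mem_subO {g : K 𝓤} : g ∈ subO 𝓤 ↔ ∃ c : ℂ, Germ.Tendsto g (𝓝 c) := Iff.rfl

lemma coe_mem_subO {f : T → ℂ} : (f : K 𝓤) ∈ subO 𝓤 ↔ ∃ c : ℂ, Tendsto f 𝓤 (𝓝 c) := Iff.rfl

/-- A bounded function converges along an ultrafilter. -/
lemma exists_tendsto_of_bounded {f : T → ℂ} {C : ℝ} (h : ∀ᶠ t in (𝓤 : Filter T), ‖f t‖ ≤ C) :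
    ∃ c : ℂ, Tendsto f 𝓤 (𝓝 c) := by
  have hc := (isCompact_closedBall (0 : ℂ) C).ultrafilter_le_nhds (𝓤.map f) (by
    rw [le_principal_iff]
    refine Filter.mem_map.2 ?_
    filter_upwards [h] with t ht
    simpa using ht)
  obtain ⟨c, -, hc⟩ := hc
  exact ⟨c, hc⟩

/-- The valuation ring of convergent germs. -/
def O : ValuationSubring (K 𝓤) where
  __ := subO 𝓤
  mem_or_inv_mem' g := by
    induction g using Germ.inductionOn with | _ f
    change (f : K 𝓤) ∈ subO 𝓤 ∨ ((f⁻¹ : T → ℂ) : K 𝓤) ∈ subO 𝓤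
    rw [coe_mem_subO, coe_mem_subO]
    rcases 𝓤.em (fun t => ‖f t‖ ≤ 1) with h | h
    · exact Or.inl (exists_tendsto_of_bounded 𝓤 h)
    · refine Or.inr (exists_tendsto_of_bounded 𝓤 (C := 1) ?_)
      filter_upwards [h] with t ht
      rw [Pi.inv_apply, norm_inv]
      exact inv_le_one_of_one_le₀ (not_le.1 ht).le

lemma mem_O {g : K 𝓤} : g ∈ O 𝓤 ↔ ∃ c : ℂ, Germ.Tendsto g (𝓝 c) := Iff.rfl

lemma coe_mem_O {f : T → ℂ} : (f : K 𝓤) ∈ O 𝓤 ↔ ∃ c : ℂ, Tendsto f 𝓤 (𝓝 c) := Iff.rfl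

/-- The limit of a convergent germ. -/
def stFun (g : O 𝓤) : ℂ := Classical.choose g.2

lemma stFun_spec (g : O 𝓤) : Germ.Tendsto (g : K 𝓤) (𝓝 (stFun 𝓤 g)) := Classical.choose_spec g.2

lemma germ_tendsto_unique {g : K 𝓤} {a b : ℂ} (ha : Germ.Tendsto g (𝓝 a))
    (hb : Germ.Tendsto g (𝓝 b)) : a = b := by
  induction g using Germ.inductionOn with | _ f
  exact tendsto_nhds_unique (Germ.coe_tendsto.1 ha) (Germ.coe_tendsto.1 hb)

lemma stFun_eq (g : O 𝓤) {a : ℂ} (ha : Germ.Tendsto (g : K 𝓤) (𝓝 a)) : stFun 𝓤 g = a :=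
  germ_tendsto_unique 𝓤 (stFun_spec 𝓤 g) ha

lemma germ_tendsto_mul {f g : K 𝓤} {a b : ℂ} (ha : Germ.Tendsto f (𝓝 a))
    (hb : Germ.Tendsto g (𝓝 b)) : Germ.Tendsto (f * g) (𝓝 (a * b)) := by
  induction f using Germ.inductionOn with | _ f
  induction g using Germ.inductionOn with | _ g
  exact (Tendsto.mul (Germ.coe_tendsto.1 ha) (Germ.coe_tendsto.1 hb))

lemma germ_tendsto_add {f g : K 𝓤} {a b : ℂ} (ha : Germ.Tendsto f (𝓝 a))
    (hb : Germ.Tendsto g (𝓝 b)) : Germ.Tendsto (f + g) (𝓝 (a + b)) := by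
  induction f using Germ.inductionOn with | _ f
  induction g using Germ.inductionOn with | _ g
  exact (Tendsto.add (Germ.coe_tendsto.1 ha) (Germ.coe_tendsto.1 hb))

/-- The residue map: the limit along the ultrafilter. -/
def st : O 𝓤 →+* ℂ where
  toFun := stFun 𝓤
  map_one' := stFun_eq 𝓤 _ (tendsto_const_nhds (x := (1 : ℂ)) : Tendsto (fun _ : T => (1 : ℂ)) _ _)
  map_zero' := stFun_eq 𝓤 _ (tendsto_const_nhds (x := (0 : ℂ)) : Tendsto (fun _ : T => (0 : ℂ)) _ _)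
  map_mul' f g := stFun_eq 𝓤 _ (germ_tendsto_mul 𝓤 (stFun_spec 𝓤 f) (stFun_spec 𝓤 g))
  map_add' f g := stFun_eq 𝓤 _ (germ_tendsto_add 𝓤 (stFun_spec 𝓤 f) (stFun_spec 𝓤 g))

lemma st_spec (g : O 𝓤) : Germ.Tendsto (g : K 𝓤) (𝓝 (st 𝓤 g)) := stFun_spec 𝓤 g

lemma st_eq (g : O 𝓤) {a : ℂ} (ha : Germ.Tendsto (g : K 𝓤) (𝓝 a)) : st 𝓤 g = a :=
  stFun_eq 𝓤 g ha

instance isLocalHom_st : IsLocalHom (st 𝓤) := by
  constructor
  intro g hg
  have hne : st 𝓤 g ≠ 0 := hg.ne_zero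
  have h1 := st_spec 𝓤 g
  obtain ⟨g, hgO⟩ := g
  have hne' : g ≠ 0 := by
    rintro rfl
    apply hne
    exact st_eq 𝓤 _ (tendsto_const_nhds (x := (0 : ℂ)) : Tendsto (fun _ : T => (0 : ℂ)) _ _)
  have h2 : g⁻¹ ∈ O 𝓤 := by
    refine ⟨(st 𝓤 ⟨g, hgO⟩)⁻¹, ?_⟩
    generalize st 𝓤 ⟨g, hgO⟩ = c at *
    induction g using Germ.inductionOn with | _ f
    exact (Tendsto.inv₀ (Germ.coe_tendsto.1 h1) hne)
  refine IsUnit.of_mul_eq_one (⟨g⁻¹, h2⟩ : O 𝓤) ?_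
  exact Subtype.ext (mul_inv_cancel₀ hne')

lemma tendsto_of_coe_eq {g : O 𝓤} {f : T → ℂ} (h : (g : K 𝓤) = (f : K 𝓤)) :
    Tendsto f 𝓤 (𝓝 (st 𝓤 g)) := by
  have := st_spec 𝓤 g
  rw [h] at this
  exact Germ.coe_tendsto.1 this

end Groth.Agent.An.H875.GermVal
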