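import Groth.Agent.An.H863.PtsCont
import Groth.Agent.An.H875.GermVal
import Mathlib.AlgebraicGeometry.ValuativeCriterion
import Mathlib.Topology.Maps.Proper.Basic

/-!
# Proper morphisms induce proper maps on complex points

For a universally closed morphism `f : X ⟶ Y` of schemes over ℂ, the induced map on complex points
is proper (universally closed).  Proof: an ultrafilter `𝓤` on `X(ℂ)` whose image converges to `y`
gives a `K`-point of `X`, `K` the field of germs along `𝓤`, and a point of `Y` with values in the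
valuation ring `O` of convergent germs; by the valuative criterion it lifts to an `O`-point of `X`,
whose closed point is a complex point `x` over `y` to which `𝓤` converges.
-/

set_option autoImplicit false
open CategoryTheory AlgebraicGeometry Topology TopologicalSpace Opposite Filter
open Groth.Agent.An.H863.PtsBasic Groth.Agent.An.H863.PtsCont
open Groth.Agent.An.H875.GermVal

noncomputable section

namespace Groth.Agent.An.H875.ProperMap

/-! ### Values of sections at ring-valued points -/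

section evR
variable {X : Scheme.{0}} {R S : Type} [CommRing R] [CommRing S]

/-- The value of a section over `W` at an `R`-valued point lying in `W`. -/
def evR (L : Spec (.of R) ⟶ X) (W : X.Opens) (h : ⊤ ≤ L ⁻¹ᵁ W) : Γ(X, W) →+* R :=
  (Scheme.ΓSpecIso (CommRingCat.of R)).hom.hom.comp (L.appLE W ⊤ h).hom

lemma evR_comp (L : Spec (.of R) ⟶ X) (W : X.Opens) (h : ⊤ ≤ L ⁻¹ᵁ W) (φ : R →+* S)
    (h' : ⊤ ≤ (Spec.map (CommRingCat.ofHom φ) ≫ L) ⁻¹ᵁ W) (s : Γ(X, W)) :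
    evR (Spec.map (CommRingCat.ofHom φ) ≫ L) W h' s = φ (evR L W h s) := by
  have h1 : (Spec.map (CommRingCat.ofHom φ) ≫ L).appLE W ⊤ h' =
      L.appLE W ⊤ h ≫ (Spec.map (CommRingCat.ofHom φ)).appTop := by
    have h0 : (Spec.map (CommRingCat.ofHom φ)).appTop =
        (Spec.map (CommRingCat.ofHom φ)).appLE ⊤ ⊤ le_top := by
      exact Scheme.Hom.app_eq_appLE _
    rw [h0, Scheme.Hom.appLE_comp_appLE]
  have h2 : (Spec.map (CommRingCat.ofHom φ) ≫ L).appLE W ⊤ h' ≫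
      (Scheme.ΓSpecIso (CommRingCat.of S)).hom =
      (L.appLE W ⊤ h ≫ (Scheme.ΓSpecIso (CommRingCat.of R)).hom) ≫ CommRingCat.ofHom φ := by
    rw [h1, Category.assoc, Category.assoc, Scheme.ΓSpecIso_naturality]
  exact ConcreteCategory.congr_hom h2 s

lemma evR_res (L : Spec (.of R) ⟶ X) {W V : X.Opens} (i : V ≤ W) (h : ⊤ ≤ L ⁻¹ᵁ V)
    (h' : ⊤ ≤ L ⁻¹ᵁ W) (s : Γ(X, W)) :
    evR L V h (X.presheaf.map (homOfLE i).op s) = evR L W h' s := by
  unfold evR
  simp only [RingHom.comp_apply]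
  congr 1
  change (L.appLE V ⊤ h) ((X.presheaf.map (homOfLE i).op) s) = (L.appLE W ⊤ h') s
  rw [← ConcreteCategory.comp_apply, Scheme.Hom.map_appLE]

lemma evR_congr {L L' : Spec (.of R) ⟶ X} (e : L = L') (W : X.Opens) (h : ⊤ ≤ L ⁻¹ᵁ W)
    (h' : ⊤ ≤ L' ⁻¹ᵁ W) (s : Γ(X, W)) : evR L W h s = evR L' W h' s := by
  subst e; rfl

/-- A ring-valued point lying in an affine open is determined by the values of sections. -/
lemma eq_SpecMap_evR (L : Spec (.of R) ⟶ X) {U : X.Opens} (hU : IsAffineOpen U)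
    (h : ⊤ ≤ L ⁻¹ᵁ U) :
    L = Spec.map (CommRingCat.ofHom (evR L U h)) ≫ hU.fromSpec := by
  have h1 := hU.SpecMap_appLE_fromSpec (f := L) (isAffineOpen_top _) h
  have h2 : CommRingCat.ofHom (evR L U h) =
      L.appLE U ⊤ h ≫ (Scheme.ΓSpecIso (CommRingCat.of R)).hom := rfl
  rw [h2, Spec.map_comp, Category.assoc, h1, IsAffineOpen.fromSpec_top,
    Scheme.isoSpec_Spec_inv, ← Spec.map_comp_assoc, Iso.inv_hom_id, Spec.map_id, Category.id_comp]

lemma evR_SpecMap_fromSpec {U : X.Opens} (hU : IsAffineOpen U) (φ : Γ(X, U) →+* R)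
    (h : ⊤ ≤ (Spec.map (CommRingCat.ofHom φ) ≫ hU.fromSpec) ⁻¹ᵁ U) (s : Γ(X, U)) :
    evR (Spec.map (CommRingCat.ofHom φ) ≫ hU.fromSpec) U h s = φ s := by
  have h1 := eq_SpecMap_evR (Spec.map (CommRingCat.ofHom φ) ≫ hU.fromSpec) hU h
  rw [cancel_mono] at h1
  have h2 := Spec.map_injective h1
  exact (ConcreteCategory.congr_hom h2 s).symm

lemma top_le_preimage_fromSpec {U : X.Opens} (hU : IsAffineOpen U) (φ : Γ(X, U) →+* R) :
    ⊤ ≤ (Spec.map (CommRingCat.ofHom φ) ≫ hU.fromSpec) ⁻¹ᵁ U := by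
  intro p _
  change hU.fromSpec (Spec.map (CommRingCat.ofHom φ) p) ∈ U
  have : hU.fromSpec (Spec.map (CommRingCat.ofHom φ) p) ∈ Set.range hU.fromSpec := ⟨_, rfl⟩
  rw [hU.range_fromSpec] at this
  exact this

end evR

/-! ### The point of `X` with values in the field of germs -/

section genPt

variable {X : Scheme.{0}} [X.Over An.SC] {T : Type} (𝓤 : Ultrafilter T)

/-- The germ along `𝓤` of the values of a section. -/
def evGerm (a : T → An.Pts X) (U : X.Opens) (hU : ∀ᶠ t in (𝓤 : Filter T), (a t).pt ∈ U) :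
    Γ(X, U) →+* K 𝓤 where
  toFun f := ((fun t => evAt (a t) U f : T → ℂ) : K 𝓤)
  map_one' := Germ.coe_eq.2 (by filter_upwards [hU] with t ht; rw [evAt_of_mem ht, ev_one])
  map_zero' := Germ.coe_eq.2 (by filter_upwards [hU] with t ht; rw [evAt_of_mem ht, ev_zero])
  map_mul' f g := Germ.coe_eq.2 (by filter_upwards with t; rw [evAt_mul])
  map_add' f g := Germ.coe_eq.2 (by filter_upwards with t; rw [evAt_add])

lemma evGerm_apply (a : T → An.Pts X) (U : X.Opens)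
    (hU : ∀ᶠ t in (𝓤 : Filter T), (a t).pt ∈ U) (f : Γ(X, U)) :
    evGerm 𝓤 a U hU f = ((fun t => evAt (a t) U f : T → ℂ) : K 𝓤) := rfl

/-- The `K`-valued point of `X` defined by a family of complex points of an affine open. -/
def genPt (a : T → An.Pts X) {U : X.Opens} (hUa : IsAffineOpen U)
    (hU : ∀ᶠ t in (𝓤 : Filter T), (a t).pt ∈ U) : Spec (.of (K 𝓤)) ⟶ X :=
  Spec.map (CommRingCat.ofHom (evGerm 𝓤 a U hU)) ≫ hUa.fromSpec

lemma genPt_top_le (a : T → An.Pts X) {U : X.Opens} (hUa : IsAffineOpen U)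
    (hU : ∀ᶠ t in (𝓤 : Filter T), (a t).pt ∈ U) : ⊤ ≤ (genPt 𝓤 a hUa hU) ⁻¹ᵁ U :=
  top_le_preimage_fromSpec hUa _

/-- If the `K`-point lies in an open `W`, then almost all points do, and sections over `W` take at
the `K`-point the germ of their values. -/
lemma genPt_spec (a : T → An.Pts X) {U : X.Opens} (hUa : IsAffineOpen U)
    (hU : ∀ᶠ t in (𝓤 : Filter T), (a t).pt ∈ U) (W : X.Opens)
    (hW : ⊤ ≤ (genPt 𝓤 a hUa hU) ⁻¹ᵁ W) :
    (∀ᶠ t in (𝓤 : Filter T), (a t).pt ∈ W) ∧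
      ∀ s : Γ(X, W), evR (genPt 𝓤 a hUa hU) W hW s =
        ((fun t => evAt (a t) W s : T → ℂ) : K 𝓤) := by
  set L := genPt 𝓤 a hUa hU with hL
  let p : Spec (.of (K 𝓤)) := (default : PrimeSpectrum (K 𝓤))
  have hpU : L p ∈ U := genPt_top_le 𝓤 a hUa hU (x := p) trivial
  have hpW : L p ∈ W := hW (x := p) trivial
  obtain ⟨h, hh, hx⟩ := hUa.exists_basicOpen_le (V := W) ⟨L p, hpW⟩ hpU
  change L p ∈ X.basicOpen h at hx
  have hD : ⊤ ≤ L ⁻¹ᵁ (X.basicOpen h) := by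
    intro q _
    have : q = p := Subsingleton.elim (α := PrimeSpectrum (K 𝓤)) _ _
    subst this
    exact hx
  have := hUa.isLocalization_basicOpen h
  have hle : X.basicOpen h ≤ U := X.basicOpen_le h
  have hres : ∀ g : Γ(X, U), algebraMap Γ(X, U) Γ(X, X.basicOpen h) g =
      X.presheaf.map (homOfLE hle).op g := fun g => rfl
  have hevU : ∀ g : Γ(X, U), evR L U (genPt_top_le 𝓤 a hUa hU) g =
      ((fun t => evAt (a t) U g : T → ℂ) : K 𝓤) := by
    intro g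
    exact evR_SpecMap_fromSpec hUa (evGerm 𝓤 a U hU) _ g
  have hunit : evR L U (genPt_top_le 𝓤 a hUa hU) h ≠ 0 := by
    rw [← evR_res L hle hD, ← hres]
    exact ((IsLocalization.Away.algebraMap_isUnit h).map _).ne_zero
  have hne : ∀ᶠ t in (𝓤 : Filter T), evAt (a t) U h ≠ 0 := by
    rw [hevU] at hunit
    rw [Ultrafilter.eventually_not]
    intro hcon
    exact hunit (Germ.coe_eq.2 hcon)
  have hDt : ∀ᶠ t in (𝓤 : Filter T), (a t).pt ∈ X.basicOpen h := by
    filter_upwards [hne, hU] with t ht1 ht2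
    rwa [evAt_of_mem ht2, ev_ne_zero_iff] at ht1
  refine ⟨hDt.mono fun t ht => hh ht, fun s => ?_⟩
  obtain ⟨n, b, hb⟩ := IsLocalization.Away.surj h (X.presheaf.map (homOfLE hh).op s)
  have e1 : evR L W hW s * evR L U (genPt_top_le 𝓤 a hUa hU) h ^ n =
      evR L U (genPt_top_le 𝓤 a hUa hU) b := by
    have e := congrArg (fun s => evR L (X.basicOpen h) hD s) hb
    simp only [hres, map_mul, map_pow] at e
    rwa [evR_res L hh hD hW, evR_res L hle hD (genPt_top_le 𝓤 a hUa hU),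
      evR_res L hle hD (genPt_top_le 𝓤 a hUa hU)] at e
  have e2 : ((fun t => evAt (a t) W s : T → ℂ) : K 𝓤) *
      ((fun t => evAt (a t) U h : T → ℂ) : K 𝓤) ^ n =
      ((fun t => evAt (a t) U b : T → ℂ) : K 𝓤) := by
    refine Germ.coe_eq.2 ?_
    filter_upwards [hDt] with t ht
    have htU : (a t).pt ∈ U := hle ht
    have htW : (a t).pt ∈ W := hh ht
    change evAt (a t) W s * evAt (a t) U h ^ n = evAt (a t) U b
    rw [evAt_of_mem htU, evAt_of_mem htU, evAt_of_mem htW]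
    have e := congrArg (fun s => (a t).ev (X.basicOpen h) ht s) hb
    simp only [hres, ev_mul, ev_pow, ev_res] at e
    exact e
  rw [hevU, hevU] at e1
  rw [← e2] at e1
  refine mul_right_cancel₀ (pow_ne_zero n ?_) e1
  rw [← hevU]
  exact hunit

end genPt

/-! ### The limit point -/

section limit

variable {X : Scheme.{0}} [X.Over An.SC] {T : Type} (𝓤 : Ultrafilter T)

/-- A morphism from the spectrum of the valuation ring of convergent germs extending the point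
defined by a family of complex points has as closed point a limit of this family. -/
lemma tendsto_of_lift (a : T → An.Pts X) {U : X.Opens} (hUa : IsAffineOpen U)
    (hU : ∀ᶠ t in (𝓤 : Filter T), (a t).pt ∈ U) (L : Spec (.of (O 𝓤)) ⟶ X)
    (hL : Spec.map (CommRingCat.ofHom (algebraMap (O 𝓤) (K 𝓤))) ≫ L = genPt 𝓤 a hUa hU)
    (x : An.Pts X) (hx : x.1 = Spec.map (CommRingCat.ofHom (st 𝓤)) ≫ L) :
    Tendsto a 𝓤 (𝓝 x) := by
  rw [TopologicalSpace.tendsto_nhds_generateFrom_iff]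
  rintro _ ⟨W, s, V, hV, rfl⟩ hmem
  obtain ⟨hxW, hxV⟩ := hmem
  have htop : ⊤ ≤ L ⁻¹ᵁ W := by
    have hc : L (IsLocalRing.closedPoint (O 𝓤)) ∈ W := by
      have h1 : x.1 An.cpt ∈ W := hxW
      rw [hx, Scheme.Hom.comp_apply, ← An.eq_cpt (IsLocalRing.closedPoint ℂ)] at h1
      have h2 : (Spec.map (CommRingCat.ofHom (st 𝓤))) (IsLocalRing.closedPoint ℂ) =
          IsLocalRing.closedPoint (O 𝓤) :=
        IsLocalRing.comap_closedPoint (st 𝓤)
      rwa [h2] at h1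
    intro q _
    exact ((IsLocalRing.specializes_closedPoint q).mem_open (L ⁻¹ᵁ W).2 hc)
  have htopK : ⊤ ≤ (genPt 𝓤 a hUa hU) ⁻¹ᵁ W := by
    rw [← hL]
    intro q _
    exact htop (x := Spec.map (CommRingCat.ofHom (algebraMap (O 𝓤) (K 𝓤))) q) trivial
  obtain ⟨h1, h2⟩ := genPt_spec 𝓤 a hUa hU W htopK
  have h3 : ((evR L W htop s : O 𝓤) : K 𝓤) = ((fun t => evAt (a t) W s : T → ℂ) : K 𝓤) := by
    rw [← h2 s]
    have htopK' : ⊤ ≤ (Spec.map (CommRingCat.ofHom (algebraMap (O 𝓤) (K 𝓤))) ≫ L) ⁻¹ᵁ W := by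
      rw [hL]; exact htopK
    rw [← evR_congr hL W htopK' htopK, evR_comp L W htop (algebraMap (O 𝓤) (K 𝓤)) htopK' s]
    rfl
  have h4 := tendsto_of_coe_eq 𝓤 h3
  have h5 : st 𝓤 (evR L W htop s) = x.ev W hxW s := by
    have htopx : ⊤ ≤ (Spec.map (CommRingCat.ofHom (st 𝓤)) ≫ L) ⁻¹ᵁ W := by
      rw [← hx]; exact An.Pts.top_le_preimage x hxW
    rw [← evR_comp L W htop (st 𝓤) htopx s,
      ← evR_congr hx W (An.Pts.top_le_preimage x hxW) htopx]
    rfl
  rw [h5] at h4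
  filter_upwards [h1, h4.eventually (hV.mem_nhds hxV)] with t ht1 ht2
  rw [evAt_of_mem ht1] at ht2
  exact ⟨ht1, ht2⟩

end limit

/-! ### The theorem -/

section main

variable {X Y : Scheme.{0}} [X.Over An.SC] [Y.Over An.SC]

lemma evAt_map (f : X ⟶ Y) [f.IsOver An.SC] (x : An.Pts X) (V : Y.Opens) (s : Γ(Y, V)) :
    evAt (An.Pts.map f x) V s = evAt x (f ⁻¹ᵁ V) (f.app V s) := by
  by_cases h : (An.Pts.map f x).pt ∈ V
  · rw [evAt_of_mem h, An.Pts.ev_map]
    rw [An.Pts.pt_map] at h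
    rw [evAt_of_mem (U := f ⁻¹ᵁ V) h]
  · rw [evAt_of_notMem h]
    rw [An.Pts.pt_map] at h
    rw [evAt_of_notMem (U := f ⁻¹ᵁ V) h]

omit [X.Over An.SC] [Y.Over An.SC] in
lemma evR_app {R : Type} [CommRing R] (f : X ⟶ Y) (L : Spec (.of R) ⟶ X) (V : Y.Opens)
    (h : ⊤ ≤ (L ≫ f) ⁻¹ᵁ V) (h' : ⊤ ≤ L ⁻¹ᵁ (f ⁻¹ᵁ V)) (s : Γ(Y, V)) :
    evR (L ≫ f) V h s = evR L (f ⁻¹ᵁ V) h' (f.app V s) := by
  unfold evR
  simp only [RingHom.comp_apply]
  congr 1

/-- The image of the `K`-point of `X` is the `K`-point of `Y` defined by the image family. -/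
lemma genPt_comp (f : X ⟶ Y) [f.IsOver An.SC] {T : Type} (𝓤 : Ultrafilter T)
    (a : T → An.Pts X) {U : X.Opens} (hUa : IsAffineOpen U)
    (hU : ∀ᶠ t in (𝓤 : Filter T), (a t).pt ∈ U) {V : Y.Opens} (hVa : IsAffineOpen V)
    (hV : ∀ᶠ t in (𝓤 : Filter T), (An.Pts.map f (a t)).pt ∈ V) (hUV : U ≤ f ⁻¹ᵁ V) :
    genPt 𝓤 a hUa hU ≫ f = genPt 𝓤 (fun t => An.Pts.map f (a t)) hVa hV := by
  have h1 : ⊤ ≤ (genPt 𝓤 a hUa hU) ⁻¹ᵁ (f ⁻¹ᵁ V) :=
    (genPt_top_le 𝓤 a hUa hU).trans ((genPt 𝓤 a hUa hU).preimage_mono hUV)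
  have h2 : ⊤ ≤ (genPt 𝓤 a hUa hU ≫ f) ⁻¹ᵁ V := h1
  rw [eq_SpecMap_evR (genPt 𝓤 a hUa hU ≫ f) hVa h2]
  change _ = Spec.map (CommRingCat.ofHom (evGerm 𝓤 (fun t => An.Pts.map f (a t)) V hV)) ≫
    hVa.fromSpec
  congr 3
  ext s
  rw [evR_app f _ V h2 h1, (genPt_spec 𝓤 a hUa hU _ h1).2]
  congr 1

/-- A universally closed morphism of schemes over ℂ induces a proper map on complex points. -/
theorem isProperMap_map (f : X ⟶ Y) [f.IsOver An.SC] [UniversallyClosed f] :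
    IsProperMap (An.Pts.map f) := by
  rw [isProperMap_iff_ultrafilter]
  refine ⟨An.Pts.continuous_map f, fun 𝓤 y hy => ?_⟩
  have hex : ValuativeCriterion.Existence f := by
    have h2 : (ValuativeCriterion.Existence ⊓ @QuasiCompact) f := by
      rw [← UniversallyClosed.eq_valuativeCriterion]; infer_instance
    exact h2.1
  -- an affine neighbourhood of `y`
  obtain ⟨V, hVa, hyV, -⟩ := exists_isAffineOpen_mem_and_subset (U := (⊤ : Y.Opens))
    (x := y.pt) trivial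
  have hV : ∀ᶠ t in (𝓤 : Filter (An.Pts X)), (An.Pts.map f t).pt ∈ V :=
    hy.eventually ((An.Pts.isOpen_preimage_pt V).mem_nhds hyV)
  -- an affine open of `X` over `V` containing almost all points
  obtain ⟨U, hUa, hUV, hU⟩ : ∃ U : X.Opens, IsAffineOpen U ∧ U ≤ f ⁻¹ᵁ V ∧
      ∀ᶠ t in (𝓤 : Filter (An.Pts X)), t.pt ∈ U := by
    have hc : IsCompact ((f ⁻¹ᵁ V : X.Opens) : Set X) :=
      f.isCompact_preimage hVa.isCompact
    obtain ⟨x', hx', hx''⟩ := hc.ultrafilter_le_nhds (𝓤.map An.Pts.pt) (by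
      rw [le_principal_iff]
      refine Filter.mem_map.2 ?_
      filter_upwards [hV] with t ht
      rw [An.Pts.pt_map] at ht
      exact ht)
    obtain ⟨U, hUa, hxU, hUV⟩ := exists_isAffineOpen_mem_and_subset (U := f ⁻¹ᵁ V) hx'
    refine ⟨U, hUa, hUV, ?_⟩
    exact hx'' (U.2.mem_nhds hxU)
  have hlim : ∀ s : Γ(Y, V), Tendsto (fun t : An.Pts X => evAt (An.Pts.map f t) V s) 𝓤
      (𝓝 (evAt y V s)) := fun s =>
    Tendsto.comp (f := An.Pts.map f) (g := fun z => evAt z V s) (continuousAt_evAt V s hyV) hy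
  -- the square
  let ψ : Γ(Y, V) →+* O 𝓤 := (evGerm 𝓤 (An.Pts.map f) V hV).codRestrict (O 𝓤).toSubring
    (fun s => ⟨evAt y V s, hlim s⟩)
  let i₂ : Spec (.of (O 𝓤)) ⟶ Y := Spec.map (CommRingCat.ofHom ψ) ≫ hVa.fromSpec
  have hsq : CommSq (genPt 𝓤 (fun t => t) hUa hU)
      (Spec.map (CommRingCat.ofHom (algebraMap (O 𝓤) (K 𝓤)))) f i₂ := by
    constructor
    rw [genPt_comp f 𝓤 (fun t => t) hUa hU hVa hV hUV]
    change Spec.map (CommRingCat.ofHom (evGerm 𝓤 (An.Pts.map f) V hV)) ≫ hVa.fromSpec = _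
    simp only [i₂]
    rw [← Spec.map_comp_assoc]
    rfl
  obtain ⟨L, hL1, hL2⟩ := (hex
    { R := O 𝓤, K := K 𝓤, i₁ := genPt 𝓤 (fun t => t) hUa hU, i₂ := i₂, commSq := hsq }).exists_lift
  have hxy : (Spec.map (CommRingCat.ofHom (st 𝓤)) ≫ L) ≫ f = y.1 := by
    have h1 := eq_SpecMap_evR y.1 hVa (An.Pts.top_le_preimage y hyV)
    rw [Category.assoc, hL2, h1]
    simp only [i₂]
    rw [← Spec.map_comp_assoc]
    congr 3
    ext s
    change st 𝓤 (ψ s) = y.ev V hyV s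
    rw [← evAt_of_mem hyV]
    exact st_eq 𝓤 _ (hlim s)
  let x : An.Pts X := ⟨Spec.map (CommRingCat.ofHom (st 𝓤)) ≫ L, by
    rw [← comp_over f An.SC, ← Category.assoc, hxy, y.2]⟩
  refine ⟨x, Subtype.ext hxy, ?_⟩
  exact tendsto_of_lift 𝓤 (fun t => t) hUa hU L hL1 x rfl

end main

end Groth.Agent.An.H875.ProperMap
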